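import Mathlib
import Groth.Agent.DimTrdeg.Basic

/-!
# Point bound for schemes of finite type over the integers
-/

set_option autoImplicit false
universe u v

open TensorProduct Polynomial

namespace Groth.Agent.ArithPts

open scoped Classical in
theorem natCard_hom_le {B : Type u} [CommRing B] {F : Type v} [Field F] [Finite F] (d : ℕ)
    (b : Fin d → B) (S : Finset B) (hS : Algebra.adjoin ℤ (S : Set B) = ⊤)
    (h : B → (MvPolynomial (Fin d) ℤ)[X]) (hev : ∀ ψ : B →+* F, ∀ s ∈ S,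
      ψ ((h s).eval₂ (MvPolynomial.eval₂Hom (Int.castRingHom B) b) s) = 0 ∧
        (h s).map (ψ.comp (MvPolynomial.eval₂Hom (Int.castRingHom B) b)) ≠ 0) :
    Finite (B →+* F) ∧ Nat.card (B →+* F) ≤ Nat.card F ^ d * ∏ s ∈ S, (h s).natDegree := by
  have hext : ∀ ψ ψ' : B →+* F, (∀ s ∈ S, ψ s = ψ' s) → ψ = ψ' := fun ψ ψ' he => by
    have : ψ.toIntAlgHom = ψ'.toIntAlgHom := AlgHom.ext_of_adjoin_eq_top hS fun s hs => he s hs
    exact RingHom.ext fun z => AlgHom.congr_fun this z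
  have hfin : Finite (B →+* F) := Finite.of_injective (fun ψ => fun s : S => ψ s)
    fun ψ ψ' he => hext ψ ψ' fun s hs => congr_fun he ⟨s, hs⟩
  refine ⟨hfin, ?_⟩
  let := Fintype.ofFinite (B →+* F)
  let := Fintype.ofFinite F
  let Φ : (B →+* F) → (Fin d → F) := fun ψ i => ψ (b i)
  rw [Nat.card_eq_fintype_card, Nat.card_eq_fintype_card, ← Finset.card_univ]
  have hfib : ∀ x ∈ Finset.univ.image Φ,
      ((Finset.univ : Finset (B →+* F)).filter fun ψ => Φ ψ = x).card ≤ ∏ s ∈ S, (h s).natDegree := by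
    intro x hx
    obtain ⟨ψ₀, -, rfl⟩ := Finset.mem_image.1 hx
    let χ := ψ₀.comp (MvPolynomial.eval₂Hom (Int.castRingHom B) b)
    let R : S → Finset F := fun s => ((h s).map χ).roots.toFinset
    refine (Finset.card_le_card_of_injOn (t := Fintype.piFinset R) (fun ψ => fun s : S => ψ s) ?_ ?_).trans ?_
    · intro ψ hψ
      simp only [Finset.coe_filter, Finset.mem_univ, true_and, Set.mem_ofPred_eq] at hψ
      simp only [Fintype.coe_piFinset, Set.mem_pi, Set.mem_univ, forall_const, Finset.mem_coe]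
      intro s
      have hχ : ψ.comp (MvPolynomial.eval₂Hom (Int.castRingHom B) b) = χ := by
        refine MvPolynomial.ringHom_ext (fun z => ?_) fun i => ?_
        · simp [χ]
        · simpa [χ, Φ] using congr_fun hψ i
      rw [Multiset.mem_toFinset, mem_roots (hev ψ₀ s s.2).2, IsRoot, eval_map,
        show ψ₀.comp (MvPolynomial.eval₂Hom (Int.castRingHom B) b) = ψ.comp _ from hχ.symm, ← hom_eval₂]
      exact (hev ψ s s.2).1
    · intro ψ _ ψ' _ he
      exact hext ψ ψ' fun s hs => congr_fun he ⟨s, hs⟩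
    · rw [Fintype.card_piFinset, ← Finset.prod_coe_sort S]
      exact Finset.prod_le_prod (fun s _ => Nat.zero_le _) fun s _ =>
        ((Multiset.toFinset_card_le _).trans (card_roots' _)).trans natDegree_map_le
  refine (Finset.card_le_mul_card_image _ _ hfib).trans ?_
  rw [mul_comm]
  refine Nat.mul_le_mul_right _ ((Finset.card_le_univ _).trans ?_)
  rw [Fintype.card_fun, Fintype.card_fin]

variable {B : Type u} [CommRing B] (K : Type) [Field K]

theorem exists_int_mul (hK : ∀ k : K, ∃ m a : ℤ, (m : K) ≠ 0 ∧ (m : K) * k = a)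
    (z : K ⊗[ℤ] B) : ∃ (m : ℤ) (b : B), (m : K) ≠ 0 ∧ (m : K ⊗[ℤ] B) * z = 1 ⊗ₜ b := by
  induction z using TensorProduct.induction_on with
  | zero => exact ⟨1, 0, by simp, by simp⟩
  | tmul k b =>
    obtain ⟨m, a, hm, hma⟩ := hK k
    refine ⟨m, a • b, hm, ?_⟩
    rw [← TensorProduct.smul_tmul, zsmul_one, ← hma, ← map_intCast
      (Algebra.TensorProduct.includeLeftRingHom : K →+* K ⊗[ℤ] B) m]
    show (m : K) ⊗ₜ[ℤ] (1 : B) * k ⊗ₜ[ℤ] b = _
    rw [Algebra.TensorProduct.tmul_mul_tmul, one_mul]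
  | add z w hz hw =>
    obtain ⟨m, b, hm, hb⟩ := hz
    obtain ⟨n, c, hn, hc⟩ := hw
    refine ⟨m * n, n • b + m • c, by rw [Int.cast_mul]; exact mul_ne_zero hm hn, ?_⟩
    rw [TensorProduct.tmul_add, TensorProduct.tmul_smul, TensorProduct.tmul_smul, zsmul_eq_mul,
      zsmul_eq_mul, ← hb, ← hc, Int.cast_mul]
    ring

theorem exists_int_mul_mvPolynomial (hK : ∀ k : K, ∃ m a : ℤ, (m : K) ≠ 0 ∧ (m : K) * k = a) {d : ℕ}
    (Q : MvPolynomial (Fin d) K) : ∃ (m : ℤ) (Q₀ : MvPolynomial (Fin d) ℤ), (m : K) ≠ 0 ∧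
      (m : MvPolynomial (Fin d) K) * Q = MvPolynomial.map (Int.castRingHom K) Q₀ := by
  induction Q using MvPolynomial.induction_on with
  | C k =>
    obtain ⟨m, a, hm, hma⟩ := hK k
    refine ⟨m, MvPolynomial.C a, hm, ?_⟩
    rw [MvPolynomial.map_C, eq_intCast, ← hma, map_mul, map_intCast]
  | add P Q hP hQ =>
    obtain ⟨m, b, hm, hb⟩ := hP
    obtain ⟨n, c, hn, hc⟩ := hQ
    refine ⟨m * n, (n : MvPolynomial (Fin d) ℤ) * b + (m : MvPolynomial (Fin d) ℤ) * c,
      by rw [Int.cast_mul]; exact mul_ne_zero hm hn, ?_⟩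
    rw [map_add, map_mul, map_mul, map_intCast, map_intCast, ← hb, ← hc, Int.cast_mul]
    ring
  | mul_X P i hP =>
    obtain ⟨m, b, hm, hb⟩ := hP
    exact ⟨m, b * MvPolynomial.X i, hm, by rw [map_mul, MvPolynomial.map_X, ← hb, mul_assoc]⟩

/-- The data of a clearing of denominators of a normalisation of `K ⊗ B`. -/
theorem exists_data [Algebra.FiniteType ℤ B]
    (hK : ∀ k : K, ∃ m a : ℤ, (m : K) ≠ 0 ∧ (m : K) * k = a) [Nontrivial (K ⊗[ℤ] B)] :
    ∃ (d : ℕ) (b : Fin d → B) (S : Finset B) (h : B → (MvPolynomial (Fin d) ℤ)[X]) (L : ℤ),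
      (d : WithBot ℕ∞) ≤ ringKrullDim (K ⊗[ℤ] B) ∧ Algebra.adjoin ℤ (S : Set B) = ⊤ ∧ (L : K) ≠ 0 ∧
      (∀ s ∈ S, (1 : K) ⊗ₜ[ℤ] (h s).eval₂ (MvPolynomial.eval₂Hom (Int.castRingHom B) b) s = 0) ∧
      ∀ (F : Type v) [Field F] (ψ : B →+* F), (L : F) ≠ 0 → ∀ s ∈ S,
        (h s).map (ψ.comp (MvPolynomial.eval₂Hom (Int.castRingHom B) b)) ≠ 0 := by
  classical
  obtain ⟨d, g, hg, hgint⟩ := exists_integral_inj_algHom_of_fg K (K ⊗[ℤ] B)
  choose n b hn hb using fun i => exists_int_mul K hK (g (MvPolynomial.X i))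
  let g' : MvPolynomial (Fin d) K →ₐ[K] K ⊗[ℤ] B := MvPolynomial.aeval fun i => (1 : K) ⊗ₜ[ℤ] b i
  let θ : MvPolynomial (Fin d) K →ₐ[K] MvPolynomial (Fin d) K :=
    MvPolynomial.aeval fun i => MvPolynomial.C ((n i : K)⁻¹) * MvPolynomial.X i
  have hθ : g'.comp θ = g := MvPolynomial.algHom_ext fun i => by
    simp only [AlgHom.comp_apply, θ, MvPolynomial.aeval_X, map_mul, g']
    rw [← hb, MvPolynomial.aeval_C, ← map_intCast (algebraMap K (K ⊗[ℤ] B)) (n i), ← mul_assoc,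
      ← map_mul, inv_mul_cancel₀ (hn i), map_one, one_mul]
  have hd : (d : WithBot ℕ∞) ≤ ringKrullDim (K ⊗[ℤ] B) := by
    let := g.toRingHom.toAlgebra
    have : Algebra.IsIntegral (MvPolynomial (Fin d) K) (K ⊗[ℤ] B) := ⟨hgint⟩
    rw [DimTrdeg.ringKrullDim_eq_of_isIntegral (MvPolynomial (Fin d) K) _ hg,
      MvPolynomial.ringKrullDim_of_isNoetherianRing, ringKrullDim_eq_zero_of_field]
    simp
  let ev : MvPolynomial (Fin d) ℤ →+* B := MvPolynomial.eval₂Hom (Int.castRingHom B) b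
  have hcomp : ∀ Q₀ : MvPolynomial (Fin d) ℤ,
      g' (MvPolynomial.map (Int.castRingHom K) Q₀) = (1 : K) ⊗ₜ[ℤ] ev Q₀ := fun Q₀ => by
    refine RingHom.congr_fun (MvPolynomial.ringHom_ext
      (f := g'.toRingHom.comp (MvPolynomial.map (Int.castRingHom K)))
      (g := (Algebra.TensorProduct.includeRight : B →ₐ[ℤ] K ⊗[ℤ] B).toRingHom.comp ev)
      (fun z => ?_) fun i => ?_) Q₀
    · simp
    · simp [g', ev]
  have key : ∀ s : B, ∃ (h : (MvPolynomial (Fin d) ℤ)[X]) (m : ℤ), (m : K) ≠ 0 ∧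
      (1 : K) ⊗ₜ[ℤ] h.eval₂ ev s = 0 ∧
      ∀ (F : Type v) [Field F] (χ : MvPolynomial (Fin d) ℤ →+* F), (m : F) ≠ 0 → h.map χ ≠ 0 := by
    intro s
    obtain ⟨P, hPm, hP⟩ := hgint ((1 : K) ⊗ₜ[ℤ] s)
    let P' := P.map θ.toRingHom
    have hP'm : P'.Monic := hPm.map _
    have hP' : P'.eval₂ g'.toRingHom ((1 : K) ⊗ₜ[ℤ] s) = 0 := by
      rw [eval₂_map, show g'.toRingHom.comp θ.toRingHom = g.toRingHom from congrArg AlgHom.toRingHom hθ]
      exact hP
    choose m Q hm hQ using fun i => exists_int_mul_mvPolynomial K hK (P'.coeff i)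
    let N := P'.natDegree
    let M : ℤ := ∏ i ∈ Finset.range N, m i
    have hM : (M : K) ≠ 0 := by
      rw [Int.cast_prod]; exact Finset.prod_ne_zero_iff.2 fun i _ => hm i
    let c : ℕ → MvPolynomial (Fin d) ℤ := fun i =>
      if i < N then ((∏ j ∈ (Finset.range N).erase i, m j : ℤ) : MvPolynomial (Fin d) ℤ) * Q i else (M : MvPolynomial (Fin d) ℤ)
    refine ⟨∑ i ∈ Finset.range (N + 1), C (c i) * X ^ i, M, hM, ?_, ?_⟩
    · have hc : ∀ i ∈ Finset.range (N + 1), (1 : K) ⊗ₜ[ℤ] ev (c i) = (M : K ⊗[ℤ] B) * g' (P'.coeff i) := by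
        intro i hi
        rw [← hcomp]
        by_cases hiN : i < N
        · rw [show c i = _ from if_pos hiN, map_mul, map_intCast, ← hQ, map_mul, map_intCast, map_mul,
            map_intCast, ← mul_assoc, ← Int.cast_mul, Finset.prod_erase_mul _ _ (Finset.mem_range.2 hiN)]
        · have : i = N := by rw [Finset.mem_range] at hi; omega
          subst this
          rw [show c N = _ from if_neg hiN, map_intCast, map_intCast, show P'.coeff N = 1 from hP'm, map_one, mul_one]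
      calc (1 : K) ⊗ₜ[ℤ] (∑ i ∈ Finset.range (N + 1), C (c i) * X ^ i).eval₂ ev s
          = ∑ i ∈ Finset.range (N + 1), ((1 : K) ⊗ₜ[ℤ] ev (c i)) * ((1 : K) ⊗ₜ[ℤ] s) ^ i := by
            rw [eval₂_finsetSum, TensorProduct.tmul_sum]
            refine Finset.sum_congr rfl fun i _ => ?_
            rw [eval₂_mul, eval₂_C, eval₂_X_pow, Algebra.TensorProduct.tmul_pow, one_pow,
              Algebra.TensorProduct.tmul_mul_tmul, one_mul]
        _ = (M : K ⊗[ℤ] B) * P'.eval₂ g'.toRingHom ((1 : K) ⊗ₜ[ℤ] s) := by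
            rw [eval₂_eq_sum_range, Finset.mul_sum]
            refine Finset.sum_congr rfl fun i hi => ?_
            rw [hc i hi, mul_assoc]
            rfl
        _ = 0 := by rw [hP', mul_zero]
    · intro F _ χ hMF h0
      have := congrArg (fun q : F[X] => q.coeff N) h0
      simp only [coeff_map, finsetSum_coeff, coeff_C_mul_X_pow, Finset.sum_ite_eq, Finset.mem_range,
        Nat.lt_succ_self, if_true, coeff_zero] at this
      rw [show c N = _ from if_neg (lt_irrefl N), map_intCast] at this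
      exact hMF this
  choose h m hm hev hne using key
  obtain ⟨S, hS⟩ : Algebra.FiniteType ℤ B := inferInstance
  refine ⟨d, b, S, h, ∏ s ∈ S, m s, hd, hS, by
    rw [Int.cast_prod]; exact Finset.prod_ne_zero_iff.2 fun s _ => hm s, fun s _ => hev s,
    fun F _ ψ hL s hs => hne s F _ ?_⟩
  rw [Int.cast_prod] at hL
  exact Finset.prod_ne_zero_iff.1 hL s hs

end Groth.Agent.ArithPts
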