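import Groth.Agent.ArithPts.Bound

/-!
# Point bound for arithmetic schemes
-/

set_option autoImplicit false
universe u

open CategoryTheory AlgebraicGeometry TensorProduct

namespace Groth.Agent.ArithPts

theorem isJacobsonRing_int : IsJacobsonRing ℤ := by
  refine isJacobsonRing_iff_prime_eq.mpr fun P hP => ?_
  by_cases h0 : P = ⊥
  · subst h0
    refine le_antisymm (fun x hx => ?_) Ideal.le_jacobson
    rw [Ideal.mem_bot]
    rcases Int.isUnit_iff.mp (Ideal.mem_jacobson_bot.mp hx 3) with h | h <;> omega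
  · have := hP.isMaximal h0
    exact Ideal.jacobson_eq_self_of_isMaximal

theorem hK_rat : ∀ k : ℚ, ∃ m a : ℤ, (m : ℚ) ≠ 0 ∧ (m : ℚ) * k = a := fun k =>
  ⟨k.den, k.num, by exact_mod_cast k.den_nz, by push_cast; rw [mul_comm]; exact Rat.mul_den_eq_num k⟩

theorem hK_zmod (p : ℕ) [Fact p.Prime] : ∀ k : ZMod p, ∃ m a : ℤ, (m : ZMod p) ≠ 0 ∧ (m : ZMod p) * k = a :=
  fun k => ⟨1, (k.val : ℤ), by simp, by simp⟩

section
variable {B : Type u} [CommRing B]

theorem includeRight_surjective_zmod (p : ℕ) [Fact p.Prime] :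
    Function.Surjective (Algebra.TensorProduct.includeRight : B →ₐ[ℤ] ZMod p ⊗[ℤ] B) := fun z => by
  induction z using TensorProduct.induction_on with
  | zero => exact ⟨0, map_zero _⟩
  | tmul k b =>
    refine ⟨(k.val : ℤ) • b, ?_⟩
    rw [Algebra.TensorProduct.includeRight_apply, ← TensorProduct.smul_tmul, zsmul_one]
    simp
  | add z w hz hw =>
    obtain ⟨b, rfl⟩ := hz
    obtain ⟨c, rfl⟩ := hw
    exact ⟨b + c, map_add _ _ _⟩

variable [Algebra.FiniteType ℤ B]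

theorem not_isMaximal_comap_includeRight (q : Ideal (ℚ ⊗[ℤ] B)) [q.IsPrime] :
    ¬ (q.comap (Algebra.TensorProduct.includeRight : B →ₐ[ℤ] ℚ ⊗[ℤ] B)).IsMaximal := fun hmax => by
  let Q := q.comap (Algebra.TensorProduct.includeRight : B →ₐ[ℤ] ℚ ⊗[ℤ] B)
  let := Ideal.Quotient.field Q
  have := isJacobsonRing_int
  have : Algebra.FiniteType ℤ (B ⧸ Q) :=
    Algebra.FiniteType.trans (S := B) inferInstance inferInstance
  have : Module.Finite ℤ (B ⧸ Q) := finite_of_finite_type_of_isJacobsonRing _ _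
  have hinj : Function.Injective (algebraMap ℤ (B ⧸ Q)) := by
    rw [injective_iff_map_eq_zero]
    intro z hz
    by_contra hz0
    have h1 : (Algebra.TensorProduct.includeRight : B →ₐ[ℤ] ℚ ⊗[ℤ] B) (z : B) ∈ q := by
      have : Ideal.Quotient.mk Q (z : B) = 0 := by simpa using hz
      exact (Ideal.Quotient.eq_zero_iff_mem.1 this :)
    rw [map_intCast] at h1
    have hu : IsUnit ((z : ℚ ⊗[ℤ] B)) := by
      rw [← map_intCast (algebraMap ℚ (ℚ ⊗[ℤ] B)) z]
      exact (isUnit_iff_ne_zero.2 (Int.cast_ne_zero.2 hz0)).map _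
    exact ‹q.IsPrime›.ne_top (Ideal.eq_top_of_isUnit_mem _ h1 hu)
  have hf : IsField (B ⧸ Q) := (Ideal.Quotient.maximal_ideal_iff_isField_quotient Q).1 hmax
  exact Int.not_isField (isField_of_isIntegral_of_isField hinj hf)

theorem ringKrullDim_rat_tensor_add_one_le :
    ringKrullDim (ℚ ⊗[ℤ] B) + 1 ≤ ringKrullDim B ∨ Subsingleton (ℚ ⊗[ℤ] B) := by
  rcases subsingleton_or_nontrivial (ℚ ⊗[ℤ] B) with h | h
  · exact Or.inr h
  left
  have : Nonempty (PrimeSpectrum (ℚ ⊗[ℤ] B)) := inferInstance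
  let ι : B →+* ℚ ⊗[ℤ] B := (Algebra.TensorProduct.includeRight : B →ₐ[ℤ] ℚ ⊗[ℤ] B).toRingHom
  have hmono : StrictMono (PrimeSpectrum.comap ι) := fun P Q hPQ => by
    refine lt_of_le_of_ne (fun x hx => hPQ.le hx) fun he => ?_
    obtain ⟨z, hzQ, hzP⟩ := SetLike.exists_of_lt (show P.asIdeal < Q.asIdeal from hPQ)
    obtain ⟨m, b, hm, hb⟩ := exists_int_mul ℚ hK_rat z
    have hu : IsUnit ((m : ℚ ⊗[ℤ] B)) := by
      rw [← map_intCast (algebraMap ℚ (ℚ ⊗[ℤ] B)) m]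
      exact (isUnit_iff_ne_zero.2 hm).map _
    have hbQ : b ∈ (PrimeSpectrum.comap ι Q).asIdeal := by
      show (1 : ℚ) ⊗ₜ[ℤ] b ∈ Q.asIdeal
      rw [← hb]; exact Ideal.mul_mem_left _ _ hzQ
    rw [← he] at hbQ
    have : (1 : ℚ) ⊗ₜ[ℤ] b ∈ P.asIdeal := hbQ
    rw [← hb, Ideal.unit_mul_mem_iff_mem _ hu] at this
    exact hzP this
  rw [ringKrullDim, Order.krullDim_eq_iSup_length, ← WithBot.coe_one, ← WithBot.coe_add, ENat.iSup_add]
  have : Nonempty (PrimeSpectrum B) := ⟨PrimeSpectrum.comap ι (Classical.arbitrary _)⟩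
  rw [ringKrullDim, Order.krullDim_eq_iSup_length (α := PrimeSpectrum B)]
  refine WithBot.coe_le_coe.2 (iSup_le fun l => ?_)
  obtain ⟨M, hM, hle⟩ := Ideal.exists_le_maximal _ (PrimeSpectrum.comap ι l.last).isPrime.ne_top
  let M' : PrimeSpectrum B := ⟨M, hM.isPrime⟩
  have hlt : (l.map _ hmono).last < M' := lt_of_le_of_ne (by rw [LTSeries.last_map]; exact hle) (fun he => by
    rw [LTSeries.last_map] at he
    have h2 : (PrimeSpectrum.comap ι l.last).asIdeal.IsMaximal := by rw [congrArg PrimeSpectrum.asIdeal he]; exact hM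
    exact not_isMaximal_comap_includeRight l.last.asIdeal h2)
  exact le_iSup_of_le ((l.map _ hmono).snoc M' hlt) (by simp)

end

theorem topologicalKrullDim_le_ringKrullDim_bound {X : Scheme.{u}} {U : X.Opens} (hU : IsAffineOpen U)
    (r : ℕ) (hr : topologicalKrullDim X ≤ r) : ringKrullDim Γ(X, U) ≤ r := by
  rw [← PrimeSpectrum.topologicalKrullDim_eq_ringKrullDim]
  exact (hU.fromSpec.isOpenEmbedding.isEmbedding.isInducing.topologicalKrullDim_le).trans hr

theorem exists_killer {B : Type u} [CommRing B] (e : B) (he : (1 : ℚ) ⊗ₜ[ℤ] e = 0) :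
    ∃ M : ℤ, M ≠ 0 ∧ M • e = 0 := by
  have : IsLocalizedModule (nonZeroDivisors ℤ) (TensorProduct.mk ℤ ℚ B 1) :=
    (isLocalizedModule_iff_isBaseChange (nonZeroDivisors ℤ) ℚ _).2 (TensorProduct.isBaseChange ℤ B ℚ)
  obtain ⟨M, hM⟩ := (IsLocalizedModule.eq_zero_iff (nonZeroDivisors ℤ) (TensorProduct.mk ℤ ℚ B 1)).1 he
  exact ⟨M, nonZeroDivisors.ne_zero M.2, hM⟩

theorem intCast_ne_zero_of_natAbs_lt {F : Type u} [Field F] {p : ℕ} [CharP F p] {L : ℤ} (hL : L ≠ 0)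
    (h : L.natAbs < p) : (L : F) ≠ 0 := by
  rw [ne_eq, CharP.intCast_eq_zero_iff F p]
  intro hd
  have := Int.natAbs_dvd_natAbs.2 hd
  simp only [Int.natAbs_natCast] at this
  exact absurd (Nat.le_of_dvd (Int.natAbs_pos.2 hL) this) (not_le.2 h)

theorem charP_of_natCard {F : Type u} [Field F] {p m : ℕ} (hp : p.Prime) (h : Nat.card F = p ^ m) :
    Finite F ∧ CharP F p := by
  have hfin : Finite F := Nat.finite_of_card_ne_zero (h ▸ pow_ne_zero _ hp.ne_zero)
  refine ⟨hfin, ?_⟩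
  let := Fintype.ofFinite F
  rw [Nat.card_eq_fintype_card] at h
  have h0 : ((p : F)) ^ m = 0 := by
    rw [← Nat.cast_pow, ← h]
    exact FiniteField.cast_card_eq_zero F
  have h1 : ringChar F ∣ p := (ringChar.spec F p).1 (eq_zero_of_pow_eq_zero h0)
  rcases hp.eq_one_or_self_of_dvd _ h1 with h2 | h2
  · exact absurd h2 (CharP.ringChar_ne_one)
  · exact h2 ▸ ringChar.charP F

theorem finite_hom {B : Type u} [CommRing B] [Algebra.FiniteType ℤ B] (F : Type u) [Field F] [Finite F] :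
    Finite (B →+* F) := by
  obtain ⟨S, hS⟩ : Algebra.FiniteType ℤ B := inferInstance
  refine Finite.of_injective (fun ψ => fun s : S => ψ s) fun ψ ψ' he => RingHom.ext fun z => ?_
  exact AlgHom.congr_fun (AlgHom.ext_of_adjoin_eq_top hS
    (φ₁ := ψ.toIntAlgHom) (φ₂ := ψ'.toIntAlgHom) fun s hs => congr_fun he ⟨s, hs⟩) z

theorem exists_bound_large (B : Type u) [CommRing B] [Algebra.FiniteType ℤ B] (r : ℕ)
    (hr : ringKrullDim B ≤ r) :
    ∃ p₀ C₀ : ℕ, ∀ (p m : ℕ), p.Prime → p₀ ≤ p → ∀ (F : Type u) [Field F], Nat.card F = p ^ m →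
      (Nat.card (B →+* F) : ℝ) ≤ C₀ * (p : ℝ) ^ ((m : ℝ) * ((r : ℝ) - 1)) := by
  classical
  rcases ringKrullDim_rat_tensor_add_one_le (B := B) with hdim | hsub
  swap
  · obtain ⟨M, hM, hM1⟩ := exists_killer (1 : B) (Subsingleton.elim _ _)
    refine ⟨M.natAbs + 1, 0, fun p m hp hp₀ F _ hF => ?_⟩
    obtain ⟨_, _⟩ := charP_of_natCard hp hF
    have : IsEmpty (B →+* F) := ⟨fun ψ => intCast_ne_zero_of_natAbs_lt (F := F) hM (show M.natAbs < p by omega)
      (by simpa using congrArg ψ hM1)⟩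
    simp
  rcases subsingleton_or_nontrivial (ℚ ⊗[ℤ] B) with h | h
  · obtain ⟨M, hM, hM1⟩ := exists_killer (1 : B) (Subsingleton.elim _ _)
    refine ⟨M.natAbs + 1, 0, fun p m hp hp₀ F _ hF => ?_⟩
    obtain ⟨_, _⟩ := charP_of_natCard hp hF
    have : IsEmpty (B →+* F) := ⟨fun ψ => intCast_ne_zero_of_natAbs_lt (F := F) hM (show M.natAbs < p by omega)
      (by simpa using congrArg ψ hM1)⟩
    simp
  obtain ⟨d, b, S, h, L, hd, hS, hL, hev, hne⟩ := exists_data.{u, u} (B := B) ℚ hK_rat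
  have hdr : d + 1 ≤ r := by
    have h2 : (d : WithBot ℕ∞) + 1 ≤ ringKrullDim (ℚ ⊗[ℤ] B) + 1 := by gcongr
    exact_mod_cast h2.trans (hdim.trans hr)
  choose! M hM hMe using fun s hs => exists_killer _ (hev s hs)
  refine ⟨L.natAbs + (∑ s ∈ S, (M s).natAbs) + 1, ∏ s ∈ S, (h s).natDegree, fun p m hp hp₀ F _ hF => ?_⟩
  obtain ⟨_, _⟩ := charP_of_natCard hp hF
  obtain ⟨-, hcard⟩ := natCard_hom_le (F := F) d b S hS h fun ψ s hs => by
    refine ⟨?_, hne F ψ (intCast_ne_zero_of_natAbs_lt (Int.cast_ne_zero.1 hL) (show L.natAbs < p by omega)) s hs⟩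
    have hlt : (M s).natAbs < p := by
      have := Finset.single_le_sum (f := fun s => (M s).natAbs) (fun _ _ => Nat.zero_le _) hs
      omega
    have := congrArg ψ (hMe s hs)
    rw [map_zsmul, map_zero, zsmul_eq_mul] at this
    exact (mul_eq_zero.1 this).resolve_left (intCast_ne_zero_of_natAbs_lt (hM s hs) hlt)
  rw [hF] at hcard
  calc (Nat.card (B →+* F) : ℝ) ≤ (((p ^ m) ^ d * ∏ s ∈ S, (h s).natDegree : ℕ) : ℝ) := by exact_mod_cast hcard
    _ = ((∏ s ∈ S, (h s).natDegree : ℕ) : ℝ) * (p : ℝ) ^ ((m : ℝ) * (d : ℝ)) := by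
      rw [← Nat.cast_mul m d, Real.rpow_natCast, pow_mul]; push_cast; ring
    _ ≤ _ := by
      gcongr
      · exact_mod_cast hp.one_le
      · have : ((d : ℝ)) + 1 ≤ r := by exact_mod_cast hdr
        linarith

theorem exists_bound_prime (B : Type u) [CommRing B] [Algebra.FiniteType ℤ B] (r : ℕ)
    (hr : ringKrullDim B ≤ r) (p : ℕ) :
    ∃ C : ℕ, ∀ (m : ℕ), p.Prime → ∀ (F : Type u) [Field F], Nat.card F = p ^ m →
      (Nat.card (B →+* F) : ℝ) ≤ C * (p : ℝ) ^ ((m : ℝ) * r) := by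
  by_cases hp : p.Prime
  swap
  · exact ⟨0, fun _ h => absurd h hp⟩
  have := Fact.mk hp
  have hlift : ∀ (F : Type u) [Field F] [CharP F p] (ψ : B →+* F),
      ∃ χ : ZMod p ⊗[ℤ] B →+* F, ∀ e, χ ((1 : ZMod p) ⊗ₜ[ℤ] e) = ψ e := fun F _ _ ψ =>
    ⟨(Algebra.TensorProduct.lift (ZMod.castHom (dvd_refl p) F).toIntAlgHom ψ.toIntAlgHom
      fun _ _ => Commute.all _ _).toRingHom, fun e => by simp⟩
  rcases subsingleton_or_nontrivial (ZMod p ⊗[ℤ] B) with h | h
  · refine ⟨0, fun m _ F _ hF => ?_⟩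
    obtain ⟨_, _⟩ := charP_of_natCard hp hF
    have : IsEmpty (B →+* F) := ⟨fun ψ => by
      obtain ⟨χ, -⟩ := hlift F ψ
      exact zero_ne_one ((map_zero χ).symm.trans ((congrArg χ (Subsingleton.elim 0 1)).trans (map_one χ)))⟩
    simp
  obtain ⟨d, b, S, h, L, hd, hS, hL, hev, hne⟩ := exists_data.{u, u} (B := B) (ZMod p) (hK_zmod p)
  have hdr : d ≤ r := by
    exact_mod_cast hd.trans ((ringKrullDim_le_of_surjective
      (Algebra.TensorProduct.includeRight : B →ₐ[ℤ] ZMod p ⊗[ℤ] B).toRingHom (includeRight_surjective_zmod p)).trans hr)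
  refine ⟨∏ s ∈ S, (h s).natDegree, fun m _ F _ hF => ?_⟩
  obtain ⟨_, _⟩ := charP_of_natCard hp hF
  obtain ⟨-, hcard⟩ := natCard_hom_le (F := F) d b S hS h fun ψ s hs => by
    obtain ⟨χ, hχ⟩ := hlift F ψ
    refine ⟨by rw [← hχ, hev s hs, map_zero], hne F ψ (fun h0 => hL ?_) s hs⟩
    rw [CharP.intCast_eq_zero_iff F p] at h0
    exact (CharP.intCast_eq_zero_iff (ZMod p) p L).2 h0
  rw [hF] at hcard
  calc (Nat.card (B →+* F) : ℝ) ≤ (((p ^ m) ^ d * ∏ s ∈ S, (h s).natDegree : ℕ) : ℝ) := by exact_mod_cast hcard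
    _ = ((∏ s ∈ S, (h s).natDegree : ℕ) : ℝ) * (p : ℝ) ^ ((m : ℝ) * (d : ℝ)) := by
      rw [← Nat.cast_mul m d, Real.rpow_natCast, pow_mul]; push_cast; ring
    _ ≤ _ := by
      gcongr
      exact_mod_cast hp.one_le

theorem exists_card_points_le {X : Scheme.{u}}
    (f : X ⟶ Spec (CommRingCat.of (ULift.{u} ℤ))) [LocallyOfFiniteType f] [QuasiCompact f] (r : ℕ)
    (hr : topologicalKrullDim X ≤ r) :
    ∃ (c : ℝ) (p₀ : ℕ), 0 < c ∧ ∀ (p m : ℕ), p.Prime → 1 ≤ m →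
      ∀ (F : Type u) [Field F], Nat.card F = p ^ m →
        (p₀ ≤ p → (Nat.card (Spec (CommRingCat.of F) ⟶ X) : ℝ) ≤
            c * (p : ℝ) ^ ((m : ℝ) * ((r : ℝ) - 1))) ∧
        (p < p₀ → (Nat.card (Spec (CommRingCat.of F) ⟶ X) : ℝ) ≤ c * (p : ℝ) ^ ((m : ℝ) * r)) := by
  classical
  have : CompactSpace X := QuasiCompact.compactSpace_of_compactSpace f
  let 𝒰 := X.affineCover.finiteSubcover
  let U : 𝒰.I₀ → X.Opens := fun i => (𝒰.f i).opensRange
  have hU : ∀ i, IsAffineOpen (U i) := fun i => isAffineOpen_opensRange _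
  have hft : ∀ i, Algebra.FiniteType ℤ Γ(X, U i) := fun i => by
    have h1 := HasRingHomProperty.appLE (P := @LocallyOfFiniteType) f ‹_› ⟨⊤, isAffineOpen_top _⟩ ⟨U i, hU i⟩ le_top
    have h2 : ((Scheme.ΓSpecIso (CommRingCat.of (ULift.{u} ℤ))).inv.hom.comp
        (ULift.ringEquiv.{0, u} (R := ℤ)).symm.toRingHom).FiniteType :=
      RingHom.FiniteType.of_surjective _
        (((Scheme.ΓSpecIso (CommRingCat.of (ULift.{u} ℤ))).commRingCatIsoToRingEquiv.symm.surjective).comp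
          (ULift.ringEquiv.{0, u} (R := ℤ)).symm.surjective)
    have h3 := h1.comp h2
    rw [Subsingleton.elim (((f.appLE ⊤ (U i) le_top).hom).comp _) (algebraMap ℤ Γ(X, U i))] at h3
    exact RingHom.finiteType_algebraMap.1 h3
  have hdim : ∀ i, ringKrullDim Γ(X, U i) ≤ r := fun i => topologicalKrullDim_le_ringKrullDim_bound (hU i) r hr
  choose p₀ C₀ hC₀ using fun i => exists_bound_large Γ(X, U i) r (hdim i)
  choose C hC using fun i p => exists_bound_prime Γ(X, U i) r (hdim i) p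
  let P₀ := ∑ i, p₀ i
  refine ⟨((∑ i, C₀ i + ∑ i, ∑ p ∈ Finset.range P₀, C i p + 1 : ℕ) : ℝ), P₀, by positivity, fun p m hp _ F _ hF => ?_⟩
  obtain ⟨_, _⟩ := charP_of_natCard hp hF
  have hfin : ∀ i, Finite (Γ(X, U i) →+* F) := fun i => finite_hom F
  let pt : PrimeSpectrum F := ⟨⊥, Ideal.isPrime_bot⟩
  have hex : ∀ g : Spec (CommRingCat.of F) ⟶ X, ∃ x : Σ i, (Γ(X, U i) →+* F),
      g = Spec.map (CommRingCat.ofHom x.2) ≫ (hU x.1).fromSpec := fun g => by
    obtain ⟨i, hi⟩ : ∃ i, g.base pt ∈ U i := ⟨_, 𝒰.covers _⟩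
    have hsub : Set.range g.base ⊆ Set.range (hU i).fromSpec.base := by
      rintro _ ⟨z, rfl⟩
      rw [(hU i).range_fromSpec, Subsingleton.elim z pt]
      exact hi
    refine ⟨⟨i, (Spec.preimage (IsOpenImmersion.lift (hU i).fromSpec g hsub)).hom⟩, ?_⟩
    show g = Spec.map (Spec.preimage _) ≫ _
    rw [Spec.map_preimage, IsOpenImmersion.lift_fac]
  choose φ hφ using hex
  have hinj : Function.Injective φ := fun g g' he => by rw [hφ g, hφ g', he]
  have hle : Nat.card (Spec (CommRingCat.of F) ⟶ X) ≤ ∑ i, Nat.card (Γ(X, U i) →+* F) := by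
    rw [← Nat.card_sigma]
    exact Nat.card_le_card_of_injective φ hinj
  have hleR : (Nat.card (Spec (CommRingCat.of F) ⟶ X) : ℝ) ≤ ∑ i, (Nat.card (Γ(X, U i) →+* F) : ℝ) := by
    exact_mod_cast hle
  refine ⟨fun hp₀ => hleR.trans ?_, fun hp₀ => hleR.trans ?_⟩
  · refine (Finset.sum_le_sum fun i _ => hC₀ i p m hp
      ((Finset.single_le_sum (fun j _ => Nat.zero_le (p₀ j)) (Finset.mem_univ i)).trans hp₀) F hF).trans ?_
    rw [← Finset.sum_mul]
    gcongr
    push_cast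
    have : (0 : ℝ) ≤ ∑ i, ∑ p ∈ Finset.range P₀, (C i p : ℝ) := by positivity
    linarith
  · refine (Finset.sum_le_sum fun i _ => hC i p m hp F hF).trans ?_
    rw [← Finset.sum_mul]
    gcongr
    have h1 : (∑ i, C i p) ≤ ∑ i, ∑ q ∈ Finset.range P₀, C i q := Finset.sum_le_sum fun i _ =>
      Finset.single_le_sum (fun q _ => Nat.zero_le (C i q)) (Finset.mem_range.2 hp₀)
    exact_mod_cast h1.trans (by omega)

end Groth.Agent.ArithPts
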